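import Mathlib

/-!
# Bounded roofs in the derived category
-/

set_option autoImplicit false
set_option linter.style.haveILetI false

universe w v u

open CategoryTheory CategoryTheory.Limits CategoryTheory.Pretriangulated

namespace RoofLib

variable {A : Type u} [Category.{v} A] [Abelian A]

local notation "HQ" => HomotopyCategory.quotient A (ComplexShape.up ℤ)
local notation "WQ" => HomotopyCategory.quasiIso A (ComplexShape.up ℤ)

theorem quasiIso_of_mem {X Y : CochainComplex A ℤ} {s : X ⟶ Y} (h : WQ ((HQ).map s)) : QuasiIso s := by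
  rwa [HomotopyCategory.quotient_map_mem_quasiIso_iff, HomologicalComplex.mem_quasiIso_iff] at h

theorem mem_of_quasiIso {X Y : CochainComplex A ℤ} (s : X ⟶ Y) [QuasiIso s] : WQ ((HQ).map s) := by
  rw [HomotopyCategory.quotient_map_mem_quasiIso_iff, HomologicalComplex.mem_quasiIso_iff]
  infer_instance

theorem isLE_of_quasiIso {X Y : CochainComplex A ℤ} (s : X ⟶ Y) [QuasiIso s] (n : ℤ) [Y.IsLE n] :
    X.IsLE n := by
  rw [CochainComplex.isLE_iff]
  exact fun i hi => (exactAt_iff_of_quasiIsoAt s i).2 (Y.exactAt_of_isLE n i hi)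

theorem isGE_of_quasiIso {X Y : CochainComplex A ℤ} (s : X ⟶ Y) [QuasiIso s] (n : ℤ) [X.IsGE n] :
    Y.IsGE n := by
  rw [CochainComplex.isGE_iff]
  exact fun i hi => (exactAt_iff_of_quasiIsoAt s i).1 (X.exactAt_of_isGE n i hi)

theorem isLE_of_quasiIso' {X Y : CochainComplex A ℤ} (s : X ⟶ Y) [QuasiIso s] (n : ℤ) [X.IsLE n] :
    Y.IsLE n := by
  rw [CochainComplex.isLE_iff]
  exact fun i hi => (exactAt_iff_of_quasiIsoAt s i).1 (X.exactAt_of_isLE n i hi)

/-- A quasi-isomorphism onto a bounded above complex can be refined to one with bounded above source. -/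
theorem exists_bddAbove_refine {K K'' : HomotopyCategory A (ComplexShape.up ℤ)} (a : ℤ)
    [CochainComplex.IsStrictlyLE K.as a] (s : K'' ⟶ K) (hs : WQ s) :
    ∃ (K' : HomotopyCategory A (ComplexShape.up ℤ)) (_ : CochainComplex.IsStrictlyLE K'.as a)
      (t : K' ⟶ K''), WQ (t ≫ s) := by
  obtain ⟨X, rfl⟩ : ∃ Z : CochainComplex A ℤ, (HQ).obj Z = K'' := ⟨K''.as, rfl⟩
  obtain ⟨Y, rfl⟩ : ∃ Z : CochainComplex A ℤ, (HQ).obj Z = K := ⟨K.as, rfl⟩
  obtain ⟨s, rfl⟩ := (HQ).map_surjective s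
  have : CochainComplex.IsStrictlyLE Y a := ‹_›
  have := quasiIso_of_mem hs
  have := isLE_of_quasiIso s a
  have : QuasiIso (X.ιTruncLE a) := (CochainComplex.quasiIso_ιTruncLE_iff X a).2 this
  refine ⟨(HQ).obj (X.truncLE a), inferInstanceAs (CochainComplex.IsStrictlyLE (X.truncLE a) a),
    (HQ).map (X.ιTruncLE a), ?_⟩
  rw [← Functor.map_comp]
  exact mem_of_quasiIso _

section

variable [HasDerivedCategory.{w} A]

theorem isIso_Qh {X Y : HomotopyCategory A (ComplexShape.up ℤ)} (s : X ⟶ Y) (hs : WQ s) :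
    IsIso (DerivedCategory.Qh.map s) :=
  Localization.inverts DerivedCategory.Qh WQ s hs

theorem mem_of_isIso_Qh {X Y : HomotopyCategory A (ComplexShape.up ℤ)} (s : X ⟶ Y)
    [IsIso (DerivedCategory.Qh.map s)] : WQ s :=
  (DerivedCategory.isIso_Qh_map_iff s).1 ‹_›

theorem boundedAbove_roofs (K L : HomotopyCategory A (ComplexShape.up ℤ)) (a : ℤ)
    [CochainComplex.IsStrictlyLE K.as a] :
    (∀ φ : DerivedCategory.Qh.obj K ⟶ DerivedCategory.Qh.obj L,
      ∃ (K' : HomotopyCategory A (ComplexShape.up ℤ)) (n : ℤ) (_ : CochainComplex.IsStrictlyLE K'.as n)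
        (s : K' ⟶ K) (f : K' ⟶ L), WQ s ∧ DerivedCategory.Qh.map s ≫ φ = DerivedCategory.Qh.map f) ∧
    (∀ f₁ f₂ : K ⟶ L, DerivedCategory.Qh.map f₁ = DerivedCategory.Qh.map f₂ →
      ∃ (K' : HomotopyCategory A (ComplexShape.up ℤ)) (n : ℤ) (_ : CochainComplex.IsStrictlyLE K'.as n)
        (s : K' ⟶ K), WQ s ∧ s ≫ f₁ = s ≫ f₂) := by
  refine ⟨fun φ => ?_, fun f₁ f₂ h => ?_⟩
  · obtain ⟨ψ, hψ⟩ := Localization.exists_rightFraction DerivedCategory.Qh WQ φ
    obtain ⟨K'', s, hs, g, rfl⟩ := ψ.cases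
    obtain ⟨K', hK', t, ht⟩ := exists_bddAbove_refine a s hs
    refine ⟨K', a, hK', t ≫ s, t ≫ g, ht, ?_⟩
    rw [hψ, Functor.map_comp, Functor.map_comp, Category.assoc]
    congr 1
    exact MorphismProperty.RightFraction.map_s_comp_map (MorphismProperty.RightFraction.mk s hs g) DerivedCategory.Qh _
  · obtain ⟨K'', s, hs, e⟩ := (MorphismProperty.map_eq_iff_precomp DerivedCategory.Qh WQ f₁ f₂).1 h
    obtain ⟨K', hK', t, ht⟩ := exists_bddAbove_refine a s hs
    exact ⟨K', a, hK', t ≫ s, ht, by rw [Category.assoc, e, Category.assoc]⟩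

/-- Maps out of a bounded above complex and bounded complex admit bounded right roofs. -/
theorem exists_bounded_roof (K L : CochainComplex A ℤ) (a' N : ℤ) [K.IsStrictlyLE N]
    [L.IsStrictlyGE a'] [L.IsStrictlyLE N]
    (φ : DerivedCategory.Qh.obj ((HQ).obj K) ⟶ DerivedCategory.Qh.obj ((HQ).obj L)) :
    ∃ (L' : CochainComplex A ℤ) (_ : L'.IsStrictlyGE a') (_ : L'.IsStrictlyLE N) (f : K ⟶ L')
      (t : L ⟶ L'), WQ ((HQ).map t) ∧
        φ ≫ DerivedCategory.Qh.map ((HQ).map t) = DerivedCategory.Qh.map ((HQ).map f) := by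
  obtain ⟨ψ, hψ⟩ := Localization.exists_leftFraction DerivedCategory.Qh WQ φ
  obtain ⟨L'', g, s, hs, rfl⟩ := ψ.cases
  obtain ⟨X, rfl⟩ : ∃ Z : CochainComplex A ℤ, (HQ).obj Z = L'' := ⟨L''.as, rfl⟩
  obtain ⟨g, rfl⟩ := (HQ).map_surjective g
  obtain ⟨s, rfl⟩ := (HQ).map_surjective s
  have := quasiIso_of_mem hs
  have hXge : X.IsGE a' := isGE_of_quasiIso s a'
  have hXle : X.IsLE N := isLE_of_quasiIso' s N
  have : QuasiIso (X.πTruncGE a') := (CochainComplex.quasiIso_πTruncGE_iff X a').2 hXge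
  let Y := X.truncGE a'
  have hYle : Y.IsLE N := isLE_of_quasiIso' (X.πTruncGE a') N
  have : QuasiIso (Y.ιTruncLE N) := (CochainComplex.quasiIso_ιTruncLE_iff Y N).2 hYle
  let lift : ∀ {Z : CochainComplex A ℤ} [Z.IsStrictlyLE N], (Z ⟶ Y) → (Z ⟶ Y.truncLE N) :=
    fun {Z} _ h => inv (Z.ιTruncLE N) ≫ CochainComplex.truncLEMap h N
  have hlift : ∀ {Z : CochainComplex A ℤ} [Z.IsStrictlyLE N] (h : Z ⟶ Y), lift h ≫ Y.ιTruncLE N = h :=
    fun {Z} _ h => by simp [lift]
  let t := lift (s ≫ X.πTruncGE a')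
  have ht : QuasiIso t := by
    have : QuasiIso (t ≫ Y.ιTruncLE N) := by rw [hlift]; infer_instance
    exact quasiIso_of_comp_right t (Y.ιTruncLE N)
  refine ⟨Y.truncLE N, inferInstance, inferInstance, lift (g ≫ X.πTruncGE a'), t, mem_of_quasiIso t, ?_⟩
  haveI := isIso_Qh _ (mem_of_quasiIso (Y.ιTruncLE N))
  rw [← cancel_mono (DerivedCategory.Qh.map ((HQ).map (Y.ιTruncLE N))), Category.assoc]
  simp only [← Functor.map_comp, hlift, t]
  simp only [Functor.map_comp, hψ]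
  rw [← Category.assoc]
  congr 1
  exact MorphismProperty.LeftFraction.map_comp_map_s _ _ _

theorem isStrictlyGE_cone {K L : CochainComplex A ℤ} (f : K ⟶ L) (m : ℤ) [K.IsStrictlyGE (m + 1)]
    [L.IsStrictlyGE m] : (CochainComplex.mappingCone f).IsStrictlyGE m := by
  rw [CochainComplex.isStrictlyGE_iff]
  intro n hn
  refine IsZero.of_iso ?_ (HomologicalComplex.homotopyCofiber.XIsoBiprod f n (n + 1) (by simp))
  exact (biprod_isZero_iff _ _).2 ⟨CochainComplex.isZero_of_isStrictlyGE K (m + 1) _ (by omega),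
    CochainComplex.isZero_of_isStrictlyGE L m _ (by omega)⟩

theorem isStrictlyLE_cone {K L : CochainComplex A ℤ} (f : K ⟶ L) (m : ℤ) [K.IsStrictlyLE (m + 1)]
    [L.IsStrictlyLE m] : (CochainComplex.mappingCone f).IsStrictlyLE m := by
  rw [CochainComplex.isStrictlyLE_iff]
  intro n hn
  refine IsZero.of_iso ?_ (HomologicalComplex.homotopyCofiber.XIsoBiprod f n (n + 1) (by simp))
  exact (biprod_isZero_iff _ _).2 ⟨CochainComplex.isZero_of_isStrictlyLE K (m + 1) _ (by omega),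
    CochainComplex.isZero_of_isStrictlyLE L m _ (by omega)⟩

theorem bounded_roofs (K L : HomotopyCategory A (ComplexShape.up ℤ)) (a b a' b' : ℤ)
    [CochainComplex.IsStrictlyGE K.as a] [CochainComplex.IsStrictlyLE K.as b]
    [CochainComplex.IsStrictlyGE L.as a'] [CochainComplex.IsStrictlyLE L.as b'] :
    (∀ φ : DerivedCategory.Qh.obj K ⟶ DerivedCategory.Qh.obj L,
      ∃ (L' : HomotopyCategory A (ComplexShape.up ℤ)) (m n : ℤ) (_ : CochainComplex.IsStrictlyGE L'.as m)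
        (_ : CochainComplex.IsStrictlyLE L'.as n) (f : K ⟶ L') (t : L ⟶ L'),
        WQ t ∧ φ ≫ DerivedCategory.Qh.map t = DerivedCategory.Qh.map f) ∧
    (∀ f₁ f₂ : K ⟶ L, DerivedCategory.Qh.map f₁ = DerivedCategory.Qh.map f₂ →
      ∃ (L' : HomotopyCategory A (ComplexShape.up ℤ)) (m n : ℤ) (_ : CochainComplex.IsStrictlyGE L'.as m)
        (_ : CochainComplex.IsStrictlyLE L'.as n) (t : L ⟶ L'), WQ t ∧ f₁ ≫ t = f₂ ≫ t) := by
  obtain ⟨K₀, rfl⟩ : ∃ Z : CochainComplex A ℤ, (HQ).obj Z = K := ⟨K.as, rfl⟩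
  obtain ⟨L₀, rfl⟩ : ∃ Z : CochainComplex A ℤ, (HQ).obj Z = L := ⟨L.as, rfl⟩
  have : K₀.IsStrictlyGE a := ‹_›
  have : K₀.IsStrictlyLE b := ‹_›
  have : L₀.IsStrictlyGE a' := ‹_›
  have : L₀.IsStrictlyLE b' := ‹_›
  let M := min (a - 1) a'
  let N := max b b'
  have : K₀.IsStrictlyGE (M + 1) := K₀.isStrictlyGE_of_ge _ a (by omega)
  have : L₀.IsStrictlyGE M := L₀.isStrictlyGE_of_ge _ a' (by omega)
  have : K₀.IsStrictlyLE N := K₀.isStrictlyLE_of_le b _ (by omega)
  have : K₀.IsStrictlyLE (N + 1) := K₀.isStrictlyLE_of_le b _ (by omega)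
  have : L₀.IsStrictlyLE N := L₀.isStrictlyLE_of_le b' _ (by omega)
  refine ⟨fun φ => ?_, fun f₁ f₂ h => ?_⟩
  · obtain ⟨L₀', h₁, h₂, f, t, ht, e⟩ := exists_bounded_roof K₀ L₀ M N φ
    exact ⟨(HQ).obj L₀', M, N, h₁, h₂, (HQ).map f, (HQ).map t, ht, e⟩
  · obtain ⟨f, hf⟩ := (HQ).map_surjective (f₁ - f₂)
    have h0 : DerivedCategory.Qh.map ((HQ).map f) = 0 := by
      rw [hf, Functor.map_sub, h, sub_self]
    have hK := isStrictlyGE_cone f M
    have hK' := isStrictlyLE_cone f N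
    let C := CochainComplex.mappingCone f
    have hT := DerivedCategory.Qh.map_distinguished _
      (HomotopyCategory.mappingCone_triangleh_distinguished f)
    obtain ⟨r, hr⟩ : ∃ r : DerivedCategory.Qh.obj ((HQ).obj C) ⟶ DerivedCategory.Qh.obj ((HQ).obj L₀),
        𝟙 _ = DerivedCategory.Qh.map ((HQ).map (CochainComplex.mappingCone.inr f)) ≫ r :=
      Triangle.yoneda_exact₂ _ hT _ ((congrArg (· ≫ 𝟙 _) h0).trans zero_comp)
    obtain ⟨L₀', h₁, h₂, g, t, ht, e⟩ := exists_bounded_roof C L₀ M N r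
    let t' := (HQ).map (CochainComplex.mappingCone.inr f ≫ g)
    have ht' : DerivedCategory.Qh.map t' = DerivedCategory.Qh.map ((HQ).map t) := by
      simp only [t', Functor.map_comp, ← e, ← Category.assoc]
      exact (congrArg (· ≫ _) hr.symm).trans (Category.id_comp _)
    haveI := isIso_Qh _ ht
    haveI : IsIso (DerivedCategory.Qh.map t') := ht' ▸ ‹_›
    refine ⟨(HQ).obj L₀', M, N, h₁, h₂, t', mem_of_isIso_Qh t', ?_⟩
    rw [← sub_eq_zero, ← Preadditive.sub_comp, ← hf]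
    change (HQ).map f ≫ (HQ).map (CochainComplex.mappingCone.inr f ≫ g) = 0
    rw [Functor.map_comp, ← Category.assoc]
    exact (congrArg (· ≫ _) (comp_distTriang_mor_zero₁₂ _
      (HomotopyCategory.mappingCone_triangleh_distinguished f))).trans zero_comp

end

end RoofLib
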