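import Mathlib

/-!
# Idempotent completeness from countable sums
-/

set_option autoImplicit false

universe v u

open CategoryTheory CategoryTheory.Limits CategoryTheory.Pretriangulated Opposite

namespace RoofLib

variable {D : Type u} [Category.{v} D] [Preadditive D]

/-- Complements of split monomorphisms exist. -/
def HasComplements (D : Type u) [Category.{v} D] [Preadditive D] : Prop :=
  ∀ {S T : D} (φ : S ⟶ T) (r : T ⟶ S), φ ≫ r = 𝟙 S →
    ∃ (Y : D) (p : T ⟶ Y) (s : Y ⟶ T), s ≫ p = 𝟙 Y ∧ p ≫ s = 𝟙 T - r ≫ φ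

theorem idem_complete_of_countable_sums [HasColimitsOfShape (Discrete ℕ) D] (H : HasComplements D) :
    IsIdempotentComplete D := by
  refine ⟨fun X e he => ?_⟩
  let ι := Sigma.ι (fun _ : ℕ => X)
  let φ : (∐ fun _ : ℕ => X) ⟶ ∐ fun _ : ℕ => X := Sigma.desc fun n => ι n - e ≫ ι (n + 1)
  let r : (∐ fun _ : ℕ => X) ⟶ ∐ fun _ : ℕ => X :=
    Sigma.desc fun n => (ι n - e ≫ ι n) - e ≫ ∑ k ∈ Finset.range n, ι k
  have hφr : φ ≫ r = 𝟙 _ := Sigma.hom_ext _ _ fun n => by
    simp only [φ, r, ι, Sigma.ι_desc_assoc, Preadditive.sub_comp, Category.assoc, Sigma.ι_desc,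
      Preadditive.comp_sub, ← Category.assoc e e, he, Finset.sum_range_succ, Preadditive.comp_add,
      Category.comp_id]
    abel
  obtain ⟨Y, p, s, hsp, hps⟩ := H φ r hφr
  let π : (∐ fun _ : ℕ => X) ⟶ X := Sigma.desc fun _ => 𝟙 X
  have hπ : ∀ n, ι n ≫ π = 𝟙 X := fun n => Sigma.ι_desc _ n
  have tel : ∀ n : ℕ, (∑ k ∈ Finset.range n, (ι k - e ≫ ι (k + 1))) =
      (∑ k ∈ Finset.range n, ι k) - e ≫ (∑ k ∈ Finset.range n, ι (k + 1)) := fun n => by
    rw [Finset.sum_sub_distrib, Preadditive.comp_sum]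
  have hkey : p ≫ s = π ≫ e ≫ ι 0 := Sigma.hom_ext _ _ fun n => by
    rw [hps, ← Category.assoc, hπ, Category.id_comp, Preadditive.comp_sub, Category.comp_id]
    simp only [r, φ, ι, Sigma.ι_desc_assoc, Preadditive.sub_comp, Category.assoc, Sigma.ι_desc,
      Preadditive.sum_comp, Preadditive.comp_sub, ← Category.assoc e e, he]
    have h := tel n
    simp only [ι] at h
    rw [h, Preadditive.comp_sub, ← Category.assoc e e, he]
    have h' : e ≫ (∑ k ∈ Finset.range n, Sigma.ι (fun _ : ℕ => X) (k + 1)) + e ≫ Sigma.ι (fun _ : ℕ => X) 0 =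
        e ≫ (∑ k ∈ Finset.range n, Sigma.ι (fun _ : ℕ => X) k) + e ≫ Sigma.ι (fun _ : ℕ => X) n := by
      rw [← Preadditive.comp_add, ← Preadditive.comp_add, ← Finset.sum_range_succ, ← Finset.sum_range_succ']
    linear_combination (norm := abel) -h'
  refine ⟨Y, s ≫ π, ι 0 ≫ p, ?_, ?_⟩
  · haveI : IsSplitEpi p := IsSplitEpi.mk' ⟨s, hsp⟩
    rw [← cancel_epi p, Category.assoc, ← Category.assoc p s, hkey]
    simp only [Category.assoc, ← Category.assoc (ι 0) π, hπ, Category.id_comp, Category.comp_id]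
    rw [← Category.assoc e, ← Category.assoc π, ← hkey, Category.assoc, hsp, Category.comp_id]
  · rw [Category.assoc, ← Category.assoc p s, hkey]
    simp only [Category.assoc, hπ, Category.comp_id]
    rw [← Category.assoc, hπ, Category.id_comp]

theorem hasComplements_op (H : HasComplements D) : HasComplements Dᵒᵖ := fun φ r h => by
  obtain ⟨Y, p, s, hsp, hps⟩ := H r.unop φ.unop (Quiver.Hom.op_inj (by simpa using h))
  refine ⟨op Y, s.op, p.op, by rw [← op_comp, hsp, op_id], Quiver.Hom.unop_inj ?_⟩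
  simp only [unop_comp, Quiver.Hom.unop_op, hps, unop_sub, unop_id]

variable [HasZeroObject D] [HasShift D ℤ] [∀ n : ℤ, (shiftFunctor D n).Additive] [Pretriangulated D]

theorem hasComplements : HasComplements D := fun {S T} φ r h => by
  obtain ⟨Y, p, δ, hT⟩ := distinguished_cocone_triangle φ
  obtain ⟨s, hs⟩ : ∃ s : Y ⟶ T, 𝟙 T - r ≫ φ = p ≫ s := Triangle.yoneda_exact₂ _ hT _ (by
    change φ ≫ (𝟙 T - r ≫ φ) = 0
    rw [Preadditive.comp_sub, Category.comp_id, ← Category.assoc, h, Category.id_comp, sub_self])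
  have hδ : δ = 0 := by
    haveI : IsSplitMono (φ⟦(1 : ℤ)⟧') := IsSplitMono.mk' ⟨r⟦(1 : ℤ)⟧', by
      rw [← Functor.map_comp, h, CategoryTheory.Functor.map_id]⟩
    exact (cancel_mono (φ⟦(1 : ℤ)⟧')).1 ((comp_distTriang_mor_zero₃₁ _ hT).trans zero_comp.symm)
  haveI : Epi p := Preadditive.epi_of_cancel_zero p fun g hg => by
    obtain ⟨g', hg'⟩ := Triangle.yoneda_exact₃ _ hT g hg
    exact hg'.trans ((congrArg (· ≫ g') hδ).trans zero_comp)
  refine ⟨Y, p, s, ?_, hs.symm⟩
  have h₁₂ : φ ≫ p = 0 := comp_distTriang_mor_zero₁₂ _ hT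
  rw [← cancel_epi p, ← Category.assoc, ← hs, Preadditive.sub_comp, Category.assoc, h₁₂]
  simp

theorem idem_complete (h : HasColimitsOfShape (Discrete ℕ) D ∨ HasLimitsOfShape (Discrete ℕ) D) :
    IsIdempotentComplete D := by
  rcases h with h | h
  · exact idem_complete_of_countable_sums hasComplements
  · haveI := h
    haveI : HasColimitsOfShape (Discrete ℕ) Dᵒᵖ := inferInstance
    exact Idempotents.isIdempotentComplete_iff_opposite.1
      (idem_complete_of_countable_sums (hasComplements_op hasComplements))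

end RoofLib
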