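import Groth.Agent.DerLib.KInjUse

/-!
# Killing maps out of acyclic complexes
-/

set_option autoImplicit false
set_option linter.style.haveILetI false

universe v u

open CategoryTheory CategoryTheory.Limits CategoryTheory.Pretriangulated

namespace RoofLib

variable {A : Type u} [Category.{v} A] [Abelian A] [IsGrothendieckAbelian.{v} A]
  {ι : Type v} (K : ι → CochainComplex A ℤ)

/-- The sum of all complexes mapping to `M`. -/
noncomputable abbrev srcObj (M : CochainComplex A ℤ) : CochainComplex A ℤ :=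
  ∐ fun p : (Σ i, (K i ⟶ M)) => K p.1

/-- The evaluation. -/
noncomputable abbrev srcEv (M : CochainComplex A ℤ) : srcObj K M ⟶ M :=
  Sigma.desc fun p : (Σ i, (K i ⟶ M)) => p.2

/-- Functoriality of the sum. -/
noncomputable abbrev srcMap {M M' : CochainComplex A ℤ} (g : M ⟶ M') : srcObj K M ⟶ srcObj K M' :=
  Sigma.desc fun p : (Σ i, (K i ⟶ M)) => Sigma.ι (fun q : (Σ i, (K i ⟶ M')) => K q.1) ⟨p.1, p.2 ≫ g⟩

theorem srcMap_comm {M M' : CochainComplex A ℤ} (g : M ⟶ M') :
    srcEv K M ≫ g = srcMap K g ≫ srcEv K M' :=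
  Sigma.hom_ext _ _ fun p => by simp [srcEv, srcMap]

theorem srcMap_id (M : CochainComplex A ℤ) : srcMap K (𝟙 M) = 𝟙 _ :=
  Sigma.hom_ext _ _ fun p => by
    obtain ⟨i, w⟩ := p
    simp only [srcMap, Sigma.ι_desc]
    erw [Category.comp_id, Category.comp_id]

theorem srcMap_comp {M M' M'' : CochainComplex A ℤ} (g : M ⟶ M') (h : M' ⟶ M'') :
    srcMap K (g ≫ h) = srcMap K g ≫ srcMap K h :=
  Sigma.hom_ext _ _ fun p => by
    obtain ⟨i, w⟩ := p
    simp only [srcMap, Sigma.ι_desc, Sigma.ι_desc_assoc]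
    erw [Category.assoc]

/-- The killing functor. -/
noncomputable def killFunctor : CochainComplex A ℤ ⥤ CochainComplex A ℤ where
  obj M := CochainComplex.mappingCone (srcEv K M)
  map g := CochainComplex.mappingCone.map _ _ (srcMap K g) g (srcMap_comm K g)
  map_id M := by
    simp only [srcMap_id]
    exact CochainComplex.mappingCone.map_id _
  map_comp g h := by
    simp only [srcMap_comp]
    exact CochainComplex.mappingCone.map_comp _ _ _ _ _ (srcMap_comm K g) _ _ (srcMap_comm K h)

/-- The inclusion. -/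
noncomputable def killι : 𝟭 _ ⟶ killFunctor K where
  app M := CochainComplex.mappingCone.inr (srcEv K M)
  naturality M M' g := by simp [killFunctor, CochainComplex.mappingCone.map]

theorem quasiIso_inr_of_acyclic {S M : CochainComplex A ℤ} (φ : S ⟶ M) (hS : S.Acyclic) :
    QuasiIso (CochainComplex.mappingCone.inr φ) := by
  have h : HomotopyCategory.quasiIso A (ComplexShape.up ℤ)
      ((HomotopyCategory.quotient A (ComplexShape.up ℤ)).map (CochainComplex.mappingCone.inr φ)) := by
    rw [HomotopyCategory.quasiIso_eq_trW_subcategoryAcyclic]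
    refine ((HomotopyCategory.subcategoryAcyclic A).trW_iff_of_distinguished _
      (rot_of_distTriang _ (HomotopyCategory.mappingCone_triangleh_distinguished φ))).2 ?_
    exact (HomotopyCategory.subcategoryAcyclic A).le_shift 1 _
      ((HomotopyCategory.quotient_obj_mem_subcategoryAcyclic_iff_acyclic S).2 hS)
  rw [HomotopyCategory.quotient_map_mem_quasiIso_iff, HomologicalComplex.mem_quasiIso_iff] at h
  exact h

theorem exists_killing (hK : ∀ i (n : ℤ), IsZero ((K i).homology n)) :
    ∃ (N : CochainComplex A ℤ ⥤ CochainComplex A ℤ) (j : 𝟭 _ ⟶ N), ∀ M : CochainComplex A ℤ,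
      (∀ n : ℤ, Mono ((j.app M).f n)) ∧ QuasiIso (j.app M) ∧
      ∀ (i : ι) (w : K i ⟶ M), Nonempty (Homotopy (w ≫ j.app M) 0) := by
  refine ⟨killFunctor K, killι K, fun M => ⟨fun n => ?_, ?_, fun i w => ⟨?_⟩⟩⟩
  · change Mono ((CochainComplex.mappingCone.inr (srcEv K M)).f n)
    exact mono_of_mono_fac (CochainComplex.mappingCone.inr_f_snd_v (srcEv K M) n)
  · letI : HasDerivedCategory A := HasDerivedCategory.standard A
    refine quasiIso_inr_of_acyclic _ (Groth.Agent.DerLib.KInjUse.acyclic_sigma _ fun p n => ?_)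
    rw [HomologicalComplex.exactAt_iff_isZero_homology]
    exact hK p.1 n
  · let σ := Sigma.ι (fun p : (Σ i, (K i ⟶ M)) => K p.1) ⟨i, w⟩
    have e : w = σ ≫ srcEv K M :=
      (Sigma.ι_desc (fun p : (Σ i, (K i ⟶ M)) => p.2) ⟨i, w⟩).symm
    exact (Homotopy.ofEq (show w ≫ CochainComplex.mappingCone.inr (srcEv K M) =
        σ ≫ srcEv K M ≫ CochainComplex.mappingCone.inr (srcEv K M) by
          rw [← Category.assoc, ← e])).trans
      (((HomologicalComplex.homotopyCofiber.inrCompHomotopy (srcEv K M)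
        (fun j => ⟨j - 1, by simp⟩)).compLeft σ).trans (Homotopy.ofEq comp_zero))

end RoofLib
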